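import Groth.Agent.S1216
import Groth.Agent.Lib.FibRing4
import Mathlib.AlgebraicGeometry.Morphisms.Flat
import Mathlib.AlgebraicGeometry.Morphisms.FiniteType
import Mathlib.RingTheory.TensorProduct.Quotient

/-!
Local structure of flat finite type schemes over valuation rings with integral closed fibre: elements which are
invertible on the generic fibre are, at points of the closed fibre, units times scalars.
-/

set_option autoImplicit false
set_option linter.style.haveILetI false
set_option backward.isDefEq.respectTransparency false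

universe u

open AlgebraicGeometry CategoryTheory Limits IsLocalRing TopologicalSpace

noncomputable section

namespace Groth.Agent.ValPicTriv4

section Algebra

variable {A O : Type u} [CommRing A] [IsDomain A] [CommRing O] [Nontrivial O] [Algebra A O] [Module.Flat A O]

theorem smul_eq_zero' {a : A} (ha : a ≠ 0) {z : O} (h : algebraMap A O a * z = 0) : z = 0 := by
  refine Module.Flat.isSMulRegular_of_isRegular (M := O) (isRegular_of_ne_zero ha) ?_
  show a • z = a • (0 : O)
  rw [smul_zero, Algebra.smul_def, h]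

theorem map_ne_zero' {a : A} (ha : a ≠ 0) : algebraMap A O a ≠ 0 := fun h =>
  one_ne_zero (smul_eq_zero' (O := O) ha (by rw [h, zero_mul]) : (1 : O) = 0)

theorem cancel' {a : A} (ha : a ≠ 0) {z w : O} (h : algebraMap A O a * z = algebraMap A O a * w) : z = w :=
  sub_eq_zero.1 (smul_eq_zero' ha (by rw [mul_sub, h, sub_self]))

variable [ValuationRing A] [IsLocalRing O] [IsLocalHom (algebraMap A O)]

/-- scalars which differ by a unit of `O` differ by a unit of `A` -/
theorem exists_unit_of_eq {c c' : A} (hc : c ≠ 0) (hc' : c' ≠ 0) {w : O} (hw : IsUnit w)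
    (h : algebraMap A O c' = algebraMap A O c * w) : ∃ a : Aˣ, c' = c * a := by
  rcases ((ValuationRing.iff_dvd_total (R := A)).1 inferInstance).total c c' with ⟨a, ha⟩ | ⟨a, ha⟩
  · rw [ha, map_mul] at h
    have ha' : IsUnit a := isUnit_of_map_unit (algebraMap A O) a (cancel' hc h ▸ hw)
    exact ⟨ha'.unit, ha⟩
  · rw [ha, map_mul, mul_assoc] at h
    have h1 : algebraMap A O a * w = 1 := (cancel' hc' (h.symm.trans (mul_one _).symm))
    have ha' : IsUnit a := isUnit_of_map_unit (algebraMap A O) a (IsUnit.of_mul_eq_one w h1)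
    refine ⟨ha'.unit⁻¹, ?_⟩
    rw [ha, mul_assoc, IsUnit.mul_val_inv, mul_one]

variable [Algebra.EssFiniteType A O]

theorem exists_content {x : O} (hx : x ≠ 0) :
    ∃ (c : A) (x₁ : O), c ≠ 0 ∧ x = algebraMap A O c * x₁ ∧ x₁ ∉ (maximalIdeal A).map (algebraMap A O) := by
  obtain ⟨I, ⟨⟨c, hc⟩⟩, hmem, hmin⟩ := S1216.result (A := A) (B := O) O x
  change I = Ideal.span {c} at hc
  subst hc
  rw [Submodule.ideal_span_singleton_smul, Submodule.mem_smul_pointwise_iff_exists] at hmem
  obtain ⟨x₁, -, rfl⟩ := hmem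
  have hc0 : c ≠ 0 := fun h => hx (by rw [h, zero_smul])
  refine ⟨c, x₁, hc0, Algebra.smul_def c x₁, fun h1 => ?_⟩
  have h2 : x₁ ∈ maximalIdeal A • (⊤ : Submodule A O) := by
    rw [Ideal.smul_top_eq_map]; exact h1
  have h3 : c • x₁ ∈ (Ideal.span {c} * maximalIdeal A) • (⊤ : Submodule A O) := by
    rw [← smul_eq_mul, Submodule.smul_assoc]
    exact Submodule.smul_mem_smul (Ideal.mem_span_singleton_self c) h2
  obtain ⟨a, ha, hca⟩ := Ideal.mem_span_singleton_mul.1 (hmin _ h3 (Ideal.mem_span_singleton_self c))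
  refine (mem_maximalIdeal a).1 ha ?_
  rw [(mul_eq_left₀ hc0).1 hca]
  exact isUnit_one

/-- An element dividing a nonzero scalar is a scalar times a unit. -/
theorem exists_eq_mul_unit (hP : ((maximalIdeal A).map (algebraMap A O)).IsPrime) {b e : O} {d : A} (hd : d ≠ 0)
    (h : b * e = algebraMap A O d) : ∃ c : A, c ≠ 0 ∧ ∃ u : O, IsUnit u ∧ b = algebraMap A O c * u := by
  have hb : b ≠ 0 := fun hb => map_ne_zero' hd (by rw [← h, hb, zero_mul])
  have he : e ≠ 0 := fun he => map_ne_zero' hd (by rw [← h, he, mul_zero])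
  obtain ⟨c, b₁, hc, rfl, hb₁⟩ := exists_content (A := A) hb
  obtain ⟨c', e₁, hc', rfl, he₁⟩ := exists_content (A := A) he
  have hbe : b₁ * e₁ ∉ (maximalIdeal A).map (algebraMap A O) := fun h' => (hP.mem_or_mem h').elim hb₁ he₁
  have h' : algebraMap A O (c * c') * (b₁ * e₁) = algebraMap A O d := by rw [← h, map_mul]; ring
  refine ⟨c, hc, b₁, ?_, rfl⟩
  rcases ((ValuationRing.iff_dvd_total (R := A)).1 inferInstance).total (c * c') d with ⟨a, ha⟩ | ⟨a, ha⟩
  · rw [ha, map_mul (algebraMap A O) (c * c') a] at h'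
    have h1 : b₁ * e₁ = algebraMap A O a := cancel' (mul_ne_zero hc hc') h'
    have ha' : IsUnit a := by
      by_contra hn
      exact hbe (h1 ▸ Ideal.mem_map_of_mem _ hn)
    exact isUnit_of_mul_isUnit_left (h1 ▸ ha'.map (algebraMap A O))
  · rw [ha, map_mul, mul_assoc] at h'
    have h1 : algebraMap A O a * (b₁ * e₁) = 1 := cancel' hd (h'.trans (mul_one _).symm)
    exact isUnit_of_mul_isUnit_left (IsUnit.of_mul_eq_one (algebraMap A O a) (by rw [mul_comm]; exact h1))

end Algebra

variable {A : Type u} [CommRing A] {X : Scheme.{u}} (f : X ⟶ Spec (CommRingCat.of A))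

/-- The scalars on an open. -/
def alg (V : X.Opens) : A →+* Γ(X, V) := ((Scheme.ΓSpecIso (CommRingCat.of A)).inv ≫ f.appLE ⊤ V le_top).hom

theorem res_alg {V V' : X.Opens} (h : V' ≤ V) (a : A) :
    X.presheaf.map (homOfLE h).op (alg f V a) = alg f V' a := by
  show ((f.appLE ⊤ V le_top ≫ X.presheaf.map (homOfLE h).op).hom _) = _
  rw [Scheme.Hom.appLE_map]
  rfl

/-- The scalars at a point. -/
def algSt (x : X) : A →+* X.presheaf.stalk x := (X.presheaf.germ ⊤ x trivial).hom.comp (alg f ⊤)

theorem germ_alg {V : X.Opens} {x : X} (hx : x ∈ V) (a : A) : X.presheaf.germ V x hx (alg f V a) = algSt f x a := by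
  rw [← res_alg f (le_top : V ≤ ⊤), TopCat.Presheaf.germ_res_apply]
  rfl

variable {U : X.Opens} (hU : IsAffineOpen U)

include hU in
theorem specMap_alg : Spec.map (CommRingCat.ofHom (alg f U)) = hU.fromSpec ≫ f := by
  show Spec.map ((Scheme.ΓSpecIso (CommRingCat.of A)).inv ≫ f.appLE ⊤ U le_top) = _
  rw [Spec.map_comp, ← IsAffineOpen.SpecMap_appLE_fromSpec f (isAffineOpen_top _) hU le_top, IsAffineOpen.fromSpec_top,
    Scheme.isoSpec_Spec_inv]

include hU in
theorem comap_primeIdealOf {x : X} (hx : x ∈ U) :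
    (hU.primeIdealOf ⟨x, hx⟩).asIdeal.comap (alg f U) = (f x).asIdeal := by
  have e : (hU.fromSpec ≫ f) (hU.primeIdealOf ⟨x, hx⟩) = f x :=
    congrArg f (hU.fromSpec_primeIdealOf ⟨x, hx⟩)
  rw [← e, ← specMap_alg f hU]
  rfl

include hU in
theorem flat_alg [Flat f] : (alg f U).Flat :=
  (HasRingHomProperty.Spec_iff (P := @Flat) (φ := CommRingCat.ofHom (alg f U))).1 (by
    rw [specMap_alg f hU]; infer_instance)

include hU in
theorem finiteType_alg [LocallyOfFiniteType f] : (alg f U).FiniteType :=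
  (HasRingHomProperty.Spec_iff (P := @LocallyOfFiniteType) (φ := CommRingCat.ofHom (alg f U))).1 (by
    rw [specMap_alg f hU]; infer_instance)

theorem stalk_flat [Flat f] (x : X) :
    letI := (algSt f x).toAlgebra
    Module.Flat A (X.presheaf.stalk x) := by
  obtain ⟨U, hU, hxU, -⟩ := exists_isAffineOpen_mem_and_subset (X := X) (x := x) (U := ⊤) trivial
  letI := (algSt f x).toAlgebra
  letI : Algebra A Γ(X, U) := (alg f U).toAlgebra
  letI : Algebra Γ(X, U) (X.presheaf.stalk x) := (X.presheaf.germ U x hxU).hom.toAlgebra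
  haveI : IsScalarTower A Γ(X, U) (X.presheaf.stalk x) :=
    IsScalarTower.of_algebraMap_eq fun a => (germ_alg f hxU a).symm
  haveI := hU.isLocalization_stalk ⟨x, hxU⟩
  haveI : Module.Flat A Γ(X, U) := flat_alg f hU
  haveI : Module.Flat Γ(X, U) (X.presheaf.stalk x) :=
    IsLocalization.flat _ (hU.primeIdealOf ⟨x, hxU⟩).asIdeal.primeCompl
  exact Module.Flat.trans A Γ(X, U) _

theorem stalk_essFiniteType [LocallyOfFiniteType f] (x : X) :
    letI := (algSt f x).toAlgebra
    Algebra.EssFiniteType A (X.presheaf.stalk x) := by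
  obtain ⟨U, hU, hxU, -⟩ := exists_isAffineOpen_mem_and_subset (X := X) (x := x) (U := ⊤) trivial
  letI := (algSt f x).toAlgebra
  letI : Algebra A Γ(X, U) := (alg f U).toAlgebra
  letI : Algebra Γ(X, U) (X.presheaf.stalk x) := (X.presheaf.germ U x hxU).hom.toAlgebra
  haveI : IsScalarTower A Γ(X, U) (X.presheaf.stalk x) :=
    IsScalarTower.of_algebraMap_eq fun a => (germ_alg f hxU a).symm
  haveI := hU.isLocalization_stalk ⟨x, hxU⟩
  haveI : Algebra.FiniteType A Γ(X, U) := finiteType_alg f hU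
  haveI : Algebra.EssFiniteType Γ(X, U) (X.presheaf.stalk x) :=
    Algebra.EssFiniteType.of_isLocalization _ (hU.primeIdealOf ⟨x, hxU⟩).asIdeal.primeCompl
  exact Algebra.EssFiniteType.comp A Γ(X, U) _

variable [IsLocalRing A]

theorem stalk_isLocalHom {x : X} (hx : f x = closedPoint A) : IsLocalHom (algSt f x) := by
  obtain ⟨U, hU, hxU, -⟩ := exists_isAffineOpen_mem_and_subset (X := X) (x := x) (U := ⊤) trivial
  refine ⟨fun a ha => ?_⟩
  by_contra hn
  letI : Algebra Γ(X, U) (X.presheaf.stalk x) := (X.presheaf.germ U x hxU).hom.toAlgebra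
  haveI := hU.isLocalization_stalk ⟨x, hxU⟩
  have h1 : a ∈ (hU.primeIdealOf ⟨x, hxU⟩).asIdeal.comap (alg f U) := by
    rw [comap_primeIdealOf f hU hxU, hx]
    exact hn
  rw [← germ_alg f hxU a] at ha
  exact (IsLocalization.AtPrime.isUnit_to_map_iff (X.presheaf.stalk x)
    (hU.primeIdealOf ⟨x, hxU⟩).asIdeal (alg f U a)).1 ha (show alg f U a ∈ _ from h1)

theorem stalk_isPrime {x : X} (hx : f x = closedPoint A) (hint : IsIntegral (f.fiber (closedPoint A))) :
    ((maximalIdeal A).map (algSt f x)).IsPrime := by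
  obtain ⟨U, hU, hxU, -⟩ := exists_isAffineOpen_mem_and_subset (X := X) (x := x) (U := ⊤) trivial
  let B : Type u := Γ(X, U)
  letI : Algebra A B := (alg f U).toAlgebra
  let m := maximalIdeal A
  let q : Ideal B := (hU.primeIdealOf ⟨x, hxU⟩).asIdeal
  letI : Algebra B (X.presheaf.stalk x) := (X.presheaf.germ U x hxU).hom.toAlgebra
  haveI : IsLocalization.AtPrime (X.presheaf.stalk x) q := hU.isLocalization_stalk ⟨x, hxU⟩
  have hle : m.map (algebraMap A B) ≤ q := by
    rw [Ideal.map_le_iff_le_comap]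
    show m ≤ (hU.primeIdealOf ⟨x, hxU⟩).asIdeal.comap (alg f U)
    rw [comap_primeIdealOf f hU hxU, hx]
    rfl
  let e : m.Fiber B ≃+* B ⧸ m.map (algebraMap A B) :=
    (((Algebra.TensorProduct.congr
        (AlgEquiv.ofBijective (IsScalarTower.toAlgHom A (A ⧸ m) m.ResidueField)
          (Ideal.bijective_algebraMap_quotient_residueField m))
        (AlgEquiv.refl : B ≃ₐ[A] B)).symm.toRingEquiv).trans
      (Algebra.TensorProduct.comm A (A ⧸ m) B).toRingEquiv).trans
        (Algebra.TensorProduct.quotIdealMapEquivTensorQuot B m).symm.toRingEquiv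
  obtain ⟨i, hi⟩ := FibRing4.exists_openImmersion_fiber f hU.fromSpec (𝟙 (Spec (CommRingCat.of A)))
    (by rw [Category.comp_id]; exact (specMap_alg f hU).symm) (closedPoint A)
  haveI : Nontrivial (B ⧸ m.map (algebraMap A B)) :=
    Ideal.Quotient.nontrivial_iff.2 fun h => Ideal.IsPrime.ne_top inferInstance (top_le_iff.1 (h ▸ hle))
  haveI : Nontrivial (m.Fiber B) := e.toEquiv.nontrivial
  haveI : IsIntegral (f.fiber ((𝟙 (Spec (CommRingCat.of A)) : _ ⟶ _) (closedPoint A))) := hint
  haveI : Nonempty (Spec (CommRingCat.of ((closedPoint A).asIdeal.Fiber B))) :=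
    inferInstanceAs (Nonempty (PrimeSpectrum (m.Fiber B)))
  haveI : IsIntegral (Spec (CommRingCat.of ((closedPoint A).asIdeal.Fiber B))) := isIntegral_of_isOpenImmersion i
  haveI : IsDomain (m.Fiber B) :=
    (affine_isIntegral_iff (CommRingCat.of ((closedPoint A).asIdeal.Fiber B))).1 inferInstance
  haveI : IsDomain (B ⧸ m.map (algebraMap A B)) := e.symm.toMulEquiv.isDomain
  have hP : (m.map (algebraMap A B)).IsPrime := (Ideal.Quotient.isDomain_iff_prime _).1 inferInstance
  have hcomp : algSt f x = (algebraMap B (X.presheaf.stalk x)).comp (algebraMap A B) :=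
    RingHom.ext fun a => (germ_alg f hxU a).symm
  rw [hcomp, ← Ideal.map_map]
  exact IsLocalization.isPrime_of_isPrime_disjoint q.primeCompl (X.presheaf.stalk x) _ hP
    (Set.disjoint_left.2 fun z hz hz' => hz (hle hz'))

end Groth.Agent.ValPicTriv4
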