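import Groth.Agent.Lib.ValPicTriv4.Local
import Groth.Agent.Lib.ParaFDesc27.QcqsBC
import Groth.Agent.Lib.ParaFDesc27.PicDescent
import Groth.Agent.Lib.PicDesc21.Frame
import Mathlib.AlgebraicGeometry.Morphisms.Proper

/-!
A global section of an invertible module which generates it on the generic fibre, when the module is trivial there.
-/

set_option autoImplicit false
set_option linter.style.haveILetI false
set_option linter.unusedSectionVars false
set_option backward.isDefEq.respectTransparency false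
set_option backward.isDefEq.respectTransparency.types false

universe u

open AlgebraicGeometry CategoryTheory Limits IsLocalRing TopologicalSpace TensorProduct

noncomputable section

namespace Groth.Agent.ValPicTriv4

open M1 Twist ModLimH13 ParaFDesc27

variable {A : Type u} [CommRing A] [IsDomain A]

/-- The generic point. -/
abbrev η (A : Type u) [CommRing A] [IsDomain A] : ↥(Spec (CommRingCat.of A)) := genericPoint ↑(Spec (CommRingCat.of A))

theorem η_asIdeal : (η A).asIdeal = ⊥ :=
  congrArg PrimeSpectrum.asIdeal (genericPoint_eq_bot_of_affine (CommRingCat.of A))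

theorem residue_bijective :
    Function.Bijective ((Spec (CommRingCat.of A)).residue (η A)).hom := by
  letI : Algebra A ((Spec (CommRingCat.of A)).presheaf.stalk (η A)) := StructureSheaf.stalkAlgebra A (η A)
  haveI : IsLocalization.AtPrime ((Spec (CommRingCat.of A)).presheaf.stalk (η A)) (η A).asIdeal :=
    StructureSheaf.IsLocalization.to_stalk A (η A)
  have hm : maximalIdeal ((Spec (CommRingCat.of A)).presheaf.stalk (η A)) = ⊥ := by
    rw [← IsLocalization.AtPrime.map_eq_maximalIdeal (η A).asIdeal ((Spec (CommRingCat.of A)).presheaf.stalk (η A))]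
    rw [Ideal.map_eq_bot_iff_le_ker, η_asIdeal]
    exact bot_le
  refine ⟨?_, Scheme.residue_surjective _ _⟩
  rw [injective_iff_map_eq_zero]
  intro z hz
  have hz' : z ∈ maximalIdeal ((Spec (CommRingCat.of A)).presheaf.stalk (η A)) := Ideal.Quotient.eq_zero_iff_mem.1 hz
  rwa [hm] at hz'

/-- Scalars to the residue field of the generic point. -/
def φη : CommRingCat.of A ⟶ (Spec (CommRingCat.of A)).residueField (η A) :=
  StructureSheaf.toStalk A (η A) ≫ (Spec (CommRingCat.of A)).residue (η A)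

theorem fromSpecResidueField_eq :
    (Spec (CommRingCat.of A)).fromSpecResidueField (η A) = Spec.map φη := by
  rw [φη, Spec.map_comp, Scheme.fromSpecResidueField]
  congr 1
  exact Spec.fromSpecStalk_eq' (CommRingCat.of A) (η A)

theorem φη_flat : (φη (A := A)).hom.Flat := by
  letI : Algebra A ((Spec (CommRingCat.of A)).presheaf.stalk (η A)) := StructureSheaf.stalkAlgebra A (η A)
  haveI : IsLocalization.AtPrime ((Spec (CommRingCat.of A)).presheaf.stalk (η A)) (η A).asIdeal :=
    StructureSheaf.IsLocalization.to_stalk A (η A)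
  haveI : Module.Flat A ((Spec (CommRingCat.of A)).presheaf.stalk (η A)) :=
    IsLocalization.flat _ (η A).asIdeal.primeCompl
  exact RingHom.Flat.comp (f := algebraMap A ((Spec (CommRingCat.of A)).presheaf.stalk (η A)))
    (RingHom.flat_algebraMap_iff.2 inferInstance) (RingHom.Flat.of_bijective residue_bijective)

theorem exists_frac (c : Γ(Spec ((Spec (CommRingCat.of A)).residueField (η A)), ⊤)) :
    ∃ a n : Γ(Spec (CommRingCat.of A), ⊤),
      IsUnit (((Spec (CommRingCat.of A)).fromSpecResidueField (η A)).appTop a) ∧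
      ((Spec (CommRingCat.of A)).fromSpecResidueField (η A)).appTop a * c =
        ((Spec (CommRingCat.of A)).fromSpecResidueField (η A)).appTop n := by
  let S := Spec (CommRingCat.of A)
  letI : Algebra A (S.presheaf.stalk (η A)) := StructureSheaf.stalkAlgebra A (η A)
  haveI : IsLocalization.AtPrime (S.presheaf.stalk (η A)) (η A).asIdeal :=
    StructureSheaf.IsLocalization.to_stalk A (η A)
  let iK := Scheme.ΓSpecIso (S.residueField (η A))
  let iA := Scheme.ΓSpecIso (CommRingCat.of A)
  have key : ∀ r : A, (S.fromSpecResidueField (η A)).appTop (iA.inv r) = iK.inv (φη r) := fun r => by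
    rw [fromSpecResidueField_eq]
    exact (ConcreteCategory.congr_hom (Scheme.ΓSpecIso_inv_naturality (φη (A := A))) r).symm
  obtain ⟨o, ho⟩ := Scheme.residue_surjective S (η A) (iK.hom c)
  obtain ⟨⟨n, a⟩, hna⟩ := IsLocalization.surj (η A).asIdeal.primeCompl o
  refine ⟨iA.inv a.1, iA.inv n, ?_, ?_⟩
  · rw [key]
    exact ((IsLocalization.map_units (S.presheaf.stalk (η A)) a).map (S.residue (η A)).hom).map iK.inv.hom
  · rw [key, key]
    have hc : c = iK.inv (S.residue (η A) o) := by rw [ho, Iso.hom_inv_id_apply]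
    rw [hc, ← map_mul]
    refine congrArg iK.inv ?_
    show S.residue (η A) (algebraMap A _ a.1) * _ = S.residue (η A) (algebraMap A _ n)
    rw [← map_mul, mul_comm]
    exact congrArg _ hna

variable {X : Scheme.{u}} (f : X ⟶ Spec (CommRingCat.of A)) [IsProper f]

theorem exists_section (L : X.Modules) (hL : PicF.IsInvertible L) [Coh.IsQCoh L]
    (htriv : Nonempty ((Scheme.Modules.pullback (f.fiberι (η A))).obj L ≅ Coh.structureModule (f.fiber (η A)))) :
    ∃ s : Γ(L, ⊤), ∀ (U : X.Opens) (e : Γ(L, U)) (b : Γ(X, U)), IsGen L U e →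
      mres L (le_top : U ≤ ⊤) s = b • e → ∀ x ∈ U, f x = η A → x ∈ X.basicOpen b := by
  classical
  let S := Spec (CommRingCat.of A)
  let fk := S.fromSpecResidueField (η A)
  let a := f.fiberToSpecResidueField (η A)
  let g := f.fiberι (η A)
  have H : IsPullback a g fk f := (IsPullback.of_hasPullback f fk).flip
  haveI : Flat fk := by
    show Flat (S.fromSpecResidueField (η A))
    rw [fromSpecResidueField_eq]
    exact (HasRingHomProperty.Spec_iff (P := @Flat)).2 φη_flat
  haveI : CompactSpace X := QuasiCompact.compactSpace_of_compactSpace f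
  obtain ⟨ψ⟩ := htriv
  let U₀ : S.Opens := ⊤
  let V₀ : {V : X.Opens // V ≤ f ⁻¹ᵁ U₀} := ⟨⊤, fun _ _ => trivial⟩
  let eW : (⊤ : (Spec (S.residueField (η A))).Opens) ≤ fk ⁻¹ᵁ U₀ := fun _ _ => trivial
  letI : Algebra Γ(S, U₀) Γ(Spec (S.residueField (η A)), ⊤) := coeffAlg eW
  let W₀ := a ⁻¹ᵁ (⊤ : (Spec (S.residueField (η A))).Opens) ⊓ g ⁻¹ᵁ V₀.1
  let σ := mres ((Scheme.Modules.pullback g).obj L) (le_top : W₀ ≤ ⊤) (ψ.inv.app ⊤ (one ⊤))
  have hσ : IsGen ((Scheme.Modules.pullback g).obj L) W₀ σ := (isGen_map_iso ψ.symm isGen_one).mres _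
  have hfrac : ∀ z : Γ(Spec (S.residueField (η A)), ⊤) ⊗[Γ(S, U₀)] Sec U₀ f L V₀,
      ∃ (r : Γ(S, U₀)) (y : Sec U₀ f L V₀),
        IsUnit (algebraMap Γ(S, U₀) Γ(Spec (S.residueField (η A)), ⊤) r) ∧ r • z = 1 ⊗ₜ y := by
    intro z
    induction z using TensorProduct.induction_on with
    | zero => exact ⟨1, 0, by rw [map_one]; exact isUnit_one, by rw [smul_zero, TensorProduct.tmul_zero]⟩
    | tmul c y =>
      obtain ⟨r, n, hr, hrn⟩ := exists_frac c
      have hal : ∀ t : Γ(S, U₀), algebraMap Γ(S, U₀) Γ(Spec (S.residueField (η A)), ⊤) t = fk.appTop t := fun t => by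
        exact (ConcreteCategory.congr_hom (Scheme.Hom.app_eq_appLE fk) t).symm
      refine ⟨r, n • y, by rw [hal]; exact hr, ?_⟩
      rw [TensorProduct.smul_tmul', Algebra.smul_def, hal, TensorProduct.tmul_smul, TensorProduct.smul_tmul',
        Algebra.smul_def, hal, mul_one]
      exact congrArg (· ⊗ₜ y) hrn
    | add z₁ z₂ h₁ h₂ =>
      obtain ⟨r₁, y₁, hr₁, h₁⟩ := h₁
      obtain ⟨r₂, y₂, hr₂, h₂⟩ := h₂
      refine ⟨r₁ * r₂, r₂ • y₁ + r₁ • y₂, by rw [map_mul]; exact hr₁.mul hr₂, ?_⟩
      rw [smul_add, TensorProduct.tmul_add, TensorProduct.tmul_smul, TensorProduct.tmul_smul, ← h₁, ← h₂, smul_smul,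
        smul_smul, mul_comm r₂ r₁]
  obtain ⟨z, hz⟩ := (bsec_bijective_of_isCompact H (isAffineOpen_top S) (isAffineOpen_top _) eW L V₀
    isCompact_univ).2 σ
  obtain ⟨r, y, hr, hy⟩ := hfrac z
  have hlin : ∀ (t : Γ(S, U₀)) (w : Γ(Spec (S.residueField (η A)), ⊤) ⊗[Γ(S, U₀)] Sec U₀ f L V₀),
      bsec H eW L V₀ (t • w) =
        a.appLE ⊤ W₀ inf_le_left (algebraMap Γ(S, U₀) Γ(Spec (S.residueField (η A)), ⊤) t) • bsec H eW L V₀ w := by
    intro t w
    induction w using TensorProduct.induction_on with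
    | zero => simp only [smul_zero, map_zero]
    | add w₁ w₂ h₁ h₂ => simp only [smul_add, map_add, h₁, h₂]
    | tmul c w =>
      rw [TensorProduct.smul_tmul', Algebra.smul_def, bsec_tmul, bsec_tmul, map_mul, mul_smul]
  have hs : IsGen ((Scheme.Modules.pullback g).obj L) W₀ (res' g L inf_le_right (Sec.val L y)) := by
    have h1 := congrArg (bsec H eW L V₀) hy
    rw [hlin, hz, bsec_tmul, map_one, one_smul] at h1
    rw [← h1]
    have hu : IsUnit (a.appLE ⊤ W₀ inf_le_left (algebraMap Γ(S, U₀) Γ(Spec (S.residueField (η A)), ⊤) r)) :=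
      hr.map (a.appLE ⊤ W₀ inf_le_left).hom
    intro V hV
    simp only [mres_smul, ← mul_smul]
    exact (hσ V hV).comp (Units.mulRight_bijective (hu.map (ores hV).hom).unit)
  refine ⟨Sec.val L y, fun U e b he hb x hxU hx => ?_⟩
  obtain ⟨w, hw⟩ : x ∈ Set.range g := (f.range_fiberι (η A)).symm.le hx
  let W₁ := g ⁻¹ᵁ U ⊓ W₀
  have hwW₁ : w ∈ W₁ := ⟨show g w ∈ U from hw ▸ hxU, ⟨trivial, trivial⟩⟩
  have h2 : mres ((Scheme.Modules.pullback g).obj L) (inf_le_right : W₁ ≤ W₀) (res' g L inf_le_right (Sec.val L y)) =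
      g.appLE U W₁ inf_le_left b • mres _ (inf_le_left : W₁ ≤ g ⁻¹ᵁ U) (M2.pullSec g L e) := by
    rw [res', mres_mres, ← mres_mres _ (g.preimage_mono (le_top : U ≤ ⊤)) (inf_le_left : W₁ ≤ g ⁻¹ᵁ U),
      ← PicDesc21.pullSec_mres, hb, M2.pullSec_smul, mres_smul]
    congr 1
    all_goals exact le_top
  have hunit : IsUnit (g.appLE U W₁ inf_le_left b) := by
    obtain ⟨t, ht⟩ := (hs W₁ inf_le_right).2 (mres _ (inf_le_left : W₁ ≤ g ⁻¹ᵁ U) (M2.pullSec g L e))
    refine IsUnit.of_mul_eq_one t ?_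
    refine ((he.pullback g) W₁ inf_le_left).1 ?_
    show (g.appLE U W₁ inf_le_left b * t) • _ = (1 : Γ(f.fiber (η A), W₁)) • _
    rw [one_smul, mul_comm, mul_smul, ← h2]
    exact ht
  subst hw
  rw [X.mem_basicOpen b (g w) hxU]
  refine isUnit_of_map_unit (g.stalkMap w).hom _ ?_
  rw [Scheme.Hom.germ_stalkMap_apply]
  have h3 := hunit.map ((f.fiber (η A)).presheaf.germ W₁ w hwW₁).hom
  rw [Scheme.Hom.appLE, CommRingCat.comp_apply, TopCat.Presheaf.germ_res_apply] at h3
  exact h3

end Groth.Agent.ValPicTriv4
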